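import Mathlib

set_option autoImplicit false

/-! Fibrewise criterion for projectivity of a cokernel. -/

namespace Groth.Agent.CokerProj

open TensorProduct

variable {R M N : Type*} [CommRing R] [AddCommGroup M] [Module R M] [AddCommGroup N] [Module R N]
  (d : M →ₗ[R] N)

lemma ker_le_range_iff (A : Type*) [CommRing A] [Algebra R A] :
    LinearMap.ker (d.baseChange A) ≤
        LinearMap.range ((LinearMap.ker d).subtype.baseChange A) ↔
      Function.Injective ((LinearMap.range d).subtype.baseChange A) := by
  have hfac : d = (LinearMap.range d).subtype ∘ₗ d.rangeRestrict := rfl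
  have hex : Function.Exact ((LinearMap.ker d).subtype.baseChange A) (d.rangeRestrict.baseChange A) :=
    lTensor_exact A (LinearMap.exact_iff.2 (by
      rw [LinearMap.ker_rangeRestrict, Submodule.range_subtype])) d.surjective_rangeRestrict
  have hs : Function.Surjective (d.rangeRestrict.baseChange A) :=
    LinearMap.lTensor_surjective A d.surjective_rangeRestrict
  conv_lhs => rw [hfac, LinearMap.baseChange_comp]
  constructor
  · intro h
    rw [← LinearMap.ker_eq_bot, Submodule.eq_bot_iff]
    intro y hy
    obtain ⟨x, rfl⟩ := hs y
    obtain ⟨z, rfl⟩ := h hy
    exact hex.apply_apply_eq_zero z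
  · intro h x hx
    exact (hex x).1 (h (by rw [map_zero]; exact hx))

lemma range_baseChange_iff (p : PrimeSpectrum R) :
    Function.Injective ((LinearMap.range d).subtype.baseChange p.asIdeal.ResidueField) ↔
      Function.Injective (((LinearMap.range d).subtype.baseChange
        (Localization.AtPrime p.asIdeal)).baseChange p.asIdeal.ResidueField) := by
  let Rp := Localization.AtPrime p.asIdeal
  let k := p.asIdeal.ResidueField
  let e₁ := AlgebraTensorModule.cancelBaseChange R Rp k k (LinearMap.range d)
  let e₂ := AlgebraTensorModule.cancelBaseChange R Rp k k N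
  have hc : ∀ x, e₂ (((LinearMap.range d).subtype.baseChange Rp).baseChange k x) =
      (LinearMap.range d).subtype.baseChange k (e₁ x) := by
    intro x
    induction x using TensorProduct.induction_on with
    | zero => simp
    | add a b ha hb => simp [map_add, ha, hb]
    | tmul c y =>
      induction y using TensorProduct.induction_on with
      | zero => simp
      | add a b ha hb => simp only [TensorProduct.tmul_add, map_add, ha, hb]
      | tmul r m => simp [e₁, e₂]
  constructor
  · intro h x y hxy
    exact e₁.injective (h (by rw [← hc, ← hc, hxy]))
  · intro h x y hxy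
    obtain ⟨a, rfl⟩ := e₁.surjective x
    obtain ⟨b, rfl⟩ := e₁.surjective y
    rw [← hc, ← hc] at hxy
    rw [h (e₂.injective hxy)]

variable [Module.Finite R M] [Module.Finite R N] [Module.Projective R N]

instance finitePresentation_coker : Module.FinitePresentation R (N ⧸ LinearMap.range d) := by
  have : Module.FinitePresentation R N := Module.finitePresentation_of_projective R N
  refine Module.finitePresentation_of_surjective _ (Submodule.mkQ_surjective _) ?_
  rw [Submodule.ker_mkQ, LinearMap.range_eq_map]
  exact Module.Finite.fg_top.map d

/-- The fibrewise kernel condition at `p` says that the cokernel is free at `p`. -/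
lemma ker_le_range_iff_mem_freeLocus (p : PrimeSpectrum R) :
    LinearMap.ker (d.baseChange p.asIdeal.ResidueField) ≤
        LinearMap.range ((LinearMap.ker d).subtype.baseChange p.asIdeal.ResidueField) ↔
      p ∈ Module.freeLocus R (N ⧸ LinearMap.range d) := by
  let Rp := Localization.AtPrime p.asIdeal
  rw [ker_le_range_iff, range_baseChange_iff, Module.mem_freeLocus_iff_tensor p Rp]
  have : Module.Finite R (LinearMap.range d) :=
    Module.Finite.of_surjective d.rangeRestrict d.surjective_rangeRestrict
  set j := (LinearMap.range d).subtype.baseChange Rp
  set q := (LinearMap.range d).mkQ.baseChange Rp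
  have hex : Function.Exact j q :=
    lTensor_exact Rp (LinearMap.exact_subtype_mkQ _) (Submodule.mkQ_surjective _)
  have hq : Function.Surjective q := LinearMap.lTensor_surjective Rp (Submodule.mkQ_surjective _)
  have : Module.Free Rp (Rp ⊗[R] N) := Module.free_of_flat_of_isLocalRing
  refine ⟨fun h ↦ Module.free_of_lTensor_residueField_injective j q hq hex h, fun h ↦ ?_⟩
  have hj : Function.Injective j :=
    Module.Flat.lTensor_preserves_injective_linearMap _ Subtype.val_injective
  obtain ⟨l', hl'⟩ := ((Function.Exact.split_tfae hex hj hq).out 0 1).mp
    (Module.projective_lifting_property q LinearMap.id hq)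
  refine Function.HasLeftInverse.injective ⟨l'.baseChange _, fun x ↦ ?_⟩
  rw [← LinearMap.comp_apply, ← LinearMap.baseChange_comp, hl', LinearMap.baseChange_id]
  rfl

end Groth.Agent.CokerProj
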