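import Groth.Agent.CokerProj.Basic

set_option autoImplicit false

/-! Injectivity and surjectivity loci of maps of modules. -/

namespace Groth.Agent.CokerProj

open TensorProduct Module

variable {R M N : Type*} [CommRing R] [AddCommGroup M] [Module R M] [AddCommGroup N] [Module R N]
  (φ : M →ₗ[R] N)

lemma lm_mk_eq_zero_iff {S : Submonoid R} {m : M} {s : S} :
    LocalizedModule.mk m s = 0 ↔ ∃ u : S, (u : R) • m = 0 := by
  rw [← LocalizedModule.zero_mk s, LocalizedModule.mk_eq]
  refine ⟨fun ⟨u, hu⟩ ↦ ⟨u * s, ?_⟩, fun ⟨u, hu⟩ ↦ ⟨u, ?_⟩⟩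
  · simpa [Submonoid.smul_def, mul_smul] using hu
  · simp only [Submonoid.smul_def, smul_zero]
    rw [smul_comm, hu, smul_zero]

lemma lTensor_surjective_iff [Module.Finite R N] (p : PrimeSpectrum R) :
    Function.Surjective (φ.lTensor p.asIdeal.ResidueField) ↔
      p ∉ Module.support R (N ⧸ LinearMap.range φ) := by
  rw [Module.mem_support_iff_nontrivial_residueField_tensorProduct,
    not_nontrivial_iff_subsingleton]
  have hex := lTensor_exact p.asIdeal.ResidueField φ.exact_map_mkQ_range
    (Submodule.mkQ_surjective _)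
  have hs := LinearMap.lTensor_surjective p.asIdeal.ResidueField
    (g := (LinearMap.range φ).mkQ) (Submodule.mkQ_surjective _)
  refine ⟨fun h ↦ subsingleton_of_forall_eq 0 fun y ↦ ?_, fun h y ↦ (hex y).1 (Subsingleton.elim _ _)⟩
  obtain ⟨x, rfl⟩ := hs y
  obtain ⟨w, rfl⟩ := h x
  exact hex.apply_apply_eq_zero w

lemma map_surjective_iff (S : Submonoid R) :
    Function.Surjective (LocalizedModule.map S φ) ↔
      ∀ n : N, ∃ u : S, (u : R) • n ∈ LinearMap.range φ := by
  refine ⟨fun h n ↦ ?_, fun h y ↦ ?_⟩
  · obtain ⟨x, hx⟩ := h (LocalizedModule.mk n 1)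
    induction x using LocalizedModule.induction_on with
    | h m s =>
      rw [LocalizedModule.map_mk, LocalizedModule.mk_eq] at hx
      obtain ⟨u, hu⟩ := hx
      exact ⟨u * s, (u : R) • m, by simpa [Submonoid.smul_def, mul_smul] using hu⟩
  · induction y using LocalizedModule.induction_on with
    | h n s =>
      obtain ⟨u, m, hm⟩ := h n
      refine ⟨LocalizedModule.mk m (u * s), ?_⟩
      rw [LocalizedModule.map_mk, LocalizedModule.mk_eq]
      exact ⟨1, by simp [hm, Submonoid.smul_def, ← mul_smul, mul_comm]⟩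

lemma map_surjective_iff_notMem_support (p : PrimeSpectrum R) :
    Function.Surjective (LocalizedModule.map p.asIdeal.primeCompl φ) ↔
      p ∉ Module.support R (N ⧸ LinearMap.range φ) := by
  rw [map_surjective_iff, Module.notMem_support_iff']
  refine ⟨fun h q ↦ ?_, fun h n ↦ ?_⟩
  · obtain ⟨n, rfl⟩ := Submodule.Quotient.mk_surjective _ q
    obtain ⟨u, hu⟩ := h n
    exact ⟨u, u.2, by rwa [← Submodule.Quotient.mk_smul, Submodule.Quotient.mk_eq_zero]⟩
  · obtain ⟨r, hr, hrn⟩ := h (Submodule.Quotient.mk n)
    exact ⟨⟨r, hr⟩, by rwa [← Submodule.Quotient.mk_smul, Submodule.Quotient.mk_eq_zero] at hrn⟩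

lemma map_powers_surjective (f : R)
    (h : ∀ p : PrimeSpectrum R, f ∉ p.asIdeal →
      Function.Surjective (LocalizedModule.map p.asIdeal.primeCompl φ)) :
    Function.Surjective (LocalizedModule.map (Submonoid.powers f) φ) := by
  rw [map_surjective_iff]
  intro n
  have : f ∈ Ideal.radical
      (Submodule.colon (LinearMap.range φ) ({n} : Set N) : Ideal R) := by
    rw [Ideal.radical_eq_sInf, Submodule.mem_sInf]
    rintro (q : Ideal R) ⟨hle, hq⟩
    by_contra hf
    obtain ⟨u, hu⟩ := (map_surjective_iff φ _).1 (h ⟨q, hq⟩ hf) n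
    exact u.2 (hle (Submodule.mem_colon_singleton.2 hu))
  obtain ⟨k, hk⟩ := this
  exact ⟨⟨f ^ k, k, rfl⟩, Submodule.mem_colon_singleton.1 hk⟩

lemma map_powers_injective (f : R)
    (h : ∀ p : PrimeSpectrum R, f ∉ p.asIdeal →
      ∀ m, φ m = 0 → ∃ u : R, u ∉ p.asIdeal ∧ u • m = 0) :
    Function.Injective (LocalizedModule.map (Submonoid.powers f) φ) := by
  rw [← LinearMap.ker_eq_bot, Submodule.eq_bot_iff]
  intro y hy
  induction y using LocalizedModule.induction_on with
  | h m s =>
    rw [LinearMap.mem_ker, LocalizedModule.map_mk, lm_mk_eq_zero_iff] at hy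
    obtain ⟨t, ht⟩ := hy
    rw [← map_smul] at ht
    have : f ∈ Ideal.radical
        (LinearMap.ker (LinearMap.toSpanSingleton R _ ((t : R) • m)) : Ideal R) := by
      rw [Ideal.radical_eq_sInf, Submodule.mem_sInf]
      rintro (q : Ideal R) ⟨hle, hq⟩
      by_contra hf
      obtain ⟨u, huq, hu⟩ := h ⟨q, hq⟩ hf _ ht
      exact huq (hle (show u • (t : R) • m = 0 from hu))
    obtain ⟨k, hk⟩ := this
    have hk' : (f ^ k) • (t : R) • m = 0 := hk
    rw [lm_mk_eq_zero_iff]
    exact ⟨⟨f ^ k, k, rfl⟩ * t, by rwa [Submonoid.coe_mul, mul_smul]⟩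

lemma baseChange_residue_injective_iff (p : PrimeSpectrum R) :
    Function.Injective (φ.lTensor p.asIdeal.ResidueField) ↔
      Function.Injective
        ((φ.baseChange (Localization.AtPrime p.asIdeal)).lTensor p.asIdeal.ResidueField) := by
  let Rp := Localization.AtPrime p.asIdeal
  let k := p.asIdeal.ResidueField
  let e₁ := AlgebraTensorModule.cancelBaseChange R Rp k k M
  let e₂ := AlgebraTensorModule.cancelBaseChange R Rp k k N
  have hc : ∀ x, e₂ ((φ.baseChange Rp).lTensor k x) = φ.lTensor k (e₁ x) := by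
    intro x
    induction x using TensorProduct.induction_on with
    | zero => simp
    | add a b ha hb => simp [map_add, ha, hb]
    | tmul c y =>
      induction y using TensorProduct.induction_on with
      | zero => simp
      | add a b ha hb => simp only [TensorProduct.tmul_add, map_add, ha, hb]
      | tmul r m => simp [e₁, e₂]
  constructor
  · intro h x y hxy
    exact e₁.injective (h (by rw [← hc, ← hc, hxy]))
  · intro h x y hxy
    obtain ⟨a, rfl⟩ := e₁.surjective x
    obtain ⟨b, rfl⟩ := e₁.surjective y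
    rw [← hc, ← hc] at hxy
    rw [h (e₂.injective hxy)]

section

variable [Module.Finite R M] [Module.Finite R N] [Module.Projective R N]

lemma baseChange_injective_of_residue (p : PrimeSpectrum R)
    (h : Function.Injective (φ.lTensor p.asIdeal.ResidueField)) :
    Function.Injective (φ.baseChange (Localization.AtPrime p.asIdeal)) := by
  have : Module.Free (Localization.AtPrime p.asIdeal) (Localization.AtPrime p.asIdeal ⊗[R] N) :=
    Module.free_of_flat_of_isLocalRing
  obtain ⟨l, hl⟩ := (IsLocalRing.split_injective_iff_lTensor_residueField_injective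
    (φ.baseChange (Localization.AtPrime p.asIdeal))).2 ((baseChange_residue_injective_iff φ p).1 h)
  exact Function.HasLeftInverse.injective ⟨l, LinearMap.congr_fun hl⟩

lemma exists_smul_eq_zero_of_residue (p : PrimeSpectrum R)
    (h : Function.Injective (φ.lTensor p.asIdeal.ResidueField)) (m : M) (hm : φ m = 0) :
    ∃ u : R, u ∉ p.asIdeal ∧ u • m = 0 := by
  have h0 : TensorProduct.mk R (Localization.AtPrime p.asIdeal) M 1 m = 0 := by
    apply baseChange_injective_of_residue φ p h
    simp [hm]
  obtain ⟨u, hu⟩ := (IsLocalizedModule.eq_zero_iff p.asIdeal.primeCompl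
    (TensorProduct.mk R (Localization.AtPrime p.asIdeal) M 1)).1 h0
  exact ⟨u, u.2, hu⟩

lemma mem_freeLocus_of_residue_injective (p : PrimeSpectrum R)
    (h : Function.Injective (φ.lTensor p.asIdeal.ResidueField)) :
    p ∈ Module.freeLocus R (N ⧸ LinearMap.range φ) := by
  refine (ker_le_range_iff_mem_freeLocus φ p).1 ?_
  rw [LinearMap.ker_eq_bot.2 (show Function.Injective (φ.baseChange _) from h)]
  exact bot_le

lemma finrank_fibre_of_mem_freeLocus {Q : Type*} [AddCommGroup Q] [Module R Q] (p : PrimeSpectrum R)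
    (hp : p ∈ Module.freeLocus R Q) :
    Module.finrank p.asIdeal.ResidueField (p.asIdeal.ResidueField ⊗[R] Q) =
      Module.rankAtStalk Q p := by
  let Rp := Localization.AtPrime p.asIdeal
  have : Module.Free Rp (Rp ⊗[R] Q) := (Module.mem_freeLocus_iff_tensor p Rp).1 hp
  rw [← (AlgebraTensorModule.cancelBaseChange R Rp p.asIdeal.ResidueField p.asIdeal.ResidueField
    Q).finrank_eq, Module.finrank_baseChange, Module.rankAtStalk_eq_finrank_tensorProduct]

lemma residue_injective_iff [Module.Projective R M] (p : PrimeSpectrum R) :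
    Function.Injective (φ.lTensor p.asIdeal.ResidueField) ↔
      ∃ _ : p ∈ Module.freeLocus R (N ⧸ LinearMap.range φ),
        rankAtStalk M p + rankAtStalk (N ⧸ LinearMap.range φ) p = rankAtStalk N p := by
  let k := p.asIdeal.ResidueField
  have hex : Function.Exact (φ.baseChange k) ((LinearMap.range φ).mkQ.baseChange k) :=
    lTensor_exact k φ.exact_map_mkQ_range (Submodule.mkQ_surjective _)
  have hs : Function.Surjective ((LinearMap.range φ).mkQ.baseChange k) :=
    LinearMap.lTensor_surjective k (Submodule.mkQ_surjective _)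
  have h1 := LinearMap.finrank_range_add_finrank_ker ((LinearMap.range φ).mkQ.baseChange k)
  rw [LinearMap.range_eq_top.2 hs, finrank_top, LinearMap.exact_iff.1 hex] at h1
  have h2 := LinearMap.finrank_range_add_finrank_ker (φ.baseChange k)
  have hM : finrank k (k ⊗[R] M) = rankAtStalk M p := (Module.rankAtStalk_eq p).symm
  have hN : finrank k (k ⊗[R] N) = rankAtStalk N p := (Module.rankAtStalk_eq p).symm
  rw [hM] at h2
  rw [hN] at h1
  constructor
  · intro h
    have hp := mem_freeLocus_of_residue_injective φ p h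
    rw [finrank_fibre_of_mem_freeLocus p hp] at h1
    have h0 : LinearMap.ker (φ.baseChange k) = ⊥ := LinearMap.ker_eq_bot.2 h
    rw [h0, finrank_bot] at h2
    exact ⟨hp, by omega⟩
  · rintro ⟨hp, he⟩
    rw [finrank_fibre_of_mem_freeLocus p hp] at h1
    have : LinearMap.ker (φ.baseChange k) = ⊥ := Submodule.finrank_eq_zero.1 (by omega)
    exact (LinearMap.ker_eq_bot.1 this : Function.Injective (φ.baseChange k))

lemma isOpen_residue_injective [Module.Projective R M] :
    IsOpen {p : PrimeSpectrum R | Function.Injective (φ.lTensor p.asIdeal.ResidueField)} := by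
  have : Module.FinitePresentation R M := Module.finitePresentation_of_projective R M
  have : Module.FinitePresentation R N := Module.finitePresentation_of_projective R N
  let C := N ⧸ LinearMap.range φ
  have h : IsLocallyConstant fun p : Module.freeLocus R C ↦
      ((rankAtStalk M p.1 + rankAtStalk C p.1 : ℕ), rankAtStalk N p.1) := by
    refine IsLocallyConstant.prodMk (IsLocallyConstant.comp₂ ?_ ?_ (· + ·)) ?_
    · exact Module.isLocallyConstant_rankAtStalk.comp_continuous continuous_subtype_val
    · exact Module.isLocallyConstant_rankAtStalk_freeLocus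
    · exact Module.isLocallyConstant_rankAtStalk.comp_continuous continuous_subtype_val
  have h2 := Module.isOpen_freeLocus.isOpenMap_subtype_val _
    (h {x | x.1 = x.2})
  convert h2
  ext p
  simp only [Set.mem_image, Set.mem_preimage, Set.mem_ofPred_eq]
  refine (residue_injective_iff φ p).trans ⟨fun ⟨hp, he⟩ ↦ ⟨⟨p, hp⟩, he, rfl⟩, ?_⟩
  rintro ⟨⟨q, hq⟩, he, rfl⟩
  exact ⟨hq, he⟩

end

end Groth.Agent.CokerProj
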