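import Mathlib

set_option autoImplicit false

/-! Bases modulo a nilpotent ideal. -/

namespace Groth.Agent.CokerProj

open TensorProduct

universe u v w

variable {R : Type u} [CommRing R] (I : Ideal R) {M : Type v} [AddCommGroup M] [Module R M]

lemma eq_bot_of_le_smul (hI : IsNilpotent I) (K : Submodule R M) (h : K ≤ I • K) : K = ⊥ := by
  obtain ⟨n, hn⟩ := hI
  have : ∀ k : ℕ, K ≤ I ^ k • K := by
    intro k
    induction k with
    | zero => simp
    | succ k ih =>
      refine h.trans ((Submodule.smul_mono le_rfl ih).trans ?_)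
      rw [← Submodule.mul_smul, ← pow_succ']
  have h2 := this n
  rw [hn, Ideal.zero_eq_bot, Submodule.bot_smul] at h2
  exact le_bot_iff.1 h2

lemma eq_top_of_sup_smul (hI : IsNilpotent I) (N : Submodule R M)
    (h : N ⊔ I • ⊤ = ⊤) : N = ⊤ := by
  have h1 : (⊤ : Submodule R (M ⧸ N)) ≤ I • ⊤ := by
    intro y _
    obtain ⟨m, rfl⟩ := Submodule.Quotient.mk_surjective _ y
    have hm : m ∈ N ⊔ I • (⊤ : Submodule R M) := by rw [h]; trivial
    obtain ⟨a, ha, b, hb, rfl⟩ := Submodule.mem_sup.1 hm
    rw [Submodule.Quotient.mk_add, (Submodule.Quotient.mk_eq_zero N).2 ha, zero_add]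
    have h2 := Submodule.mem_map_of_mem (f := N.mkQ) hb
    rw [Submodule.map_smul'', Submodule.map_top, Submodule.range_mkQ] at h2
    exact h2
  have h2 := eq_bot_of_le_smul I hI _ h1
  refine eq_top_iff.2 fun m _ ↦ (Submodule.Quotient.mk_eq_zero N).1 ?_
  exact (Submodule.mem_bot R).1 (h2 ▸ Submodule.mem_top)

lemma lTensor_ker_injective {F : Type*} [AddCommGroup F] [Module R F] [Module.Flat R F]
    (htor : Function.Injective ((Submodule.subtype I).rTensor M)) (φ : F →ₗ[R] M)
    (hφ : Function.Surjective φ) :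
    Function.Injective ((LinearMap.ker φ).subtype.lTensor (R ⧸ I)) :=
  lTensor_injective_of_exact_of_exact_of_rTensor_injective (f₁ := Submodule.subtype I)
    (f₂ := Submodule.mkQ I) (g₁ := (LinearMap.ker φ).subtype) (g₂ := φ)
    (LinearMap.exact_subtype_mkQ I) (Submodule.mkQ_surjective _)
    (LinearMap.exact_subtype_ker_map φ) hφ htor
    (Module.Flat.lTensor_preserves_injective_linearMap (M := R) _ Subtype.val_injective)

lemma basis_of_basis_mod (hI : IsNilpotent I)
    (htor : Function.Injective ((Submodule.subtype I).rTensor M)) {A : Type w} (x : A → M)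
    (hli : LinearIndependent (R ⧸ I) (fun a => (1 : R ⧸ I) ⊗ₜ[R] x a))
    (hsp : Submodule.span (R ⧸ I) (Set.range fun a => (1 : R ⧸ I) ⊗ₜ[R] x a) = ⊤) :
    LinearIndependent R x ∧ Submodule.span R (Set.range x) = ⊤ := by
  classical
  have htop : Submodule.span R (Set.range x) = ⊤ := by
    refine eq_top_of_sup_smul I hI _ (eq_top_iff.2 fun m _ ↦ ?_)
    have hm : (1 : R ⧸ I) ⊗ₜ[R] m ∈
        Submodule.span R (Set.range fun a => (1 : R ⧸ I) ⊗ₜ[R] x a) := by
      rw [← Submodule.restrictScalars_mem R (Submodule.span R _),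
        Submodule.restrictScalars_self, ← SetLike.mem_coe,
        ← Submodule.coe_span_eq_span_of_surjective R (R ⧸ I) Ideal.Quotient.mk_surjective, hsp]
      trivial
    rw [show (fun a => (1 : R ⧸ I) ⊗ₜ[R] x a) = TensorProduct.mk R (R ⧸ I) M 1 ∘ x from rfl,
      Set.range_comp, Submodule.span_image] at hm
    obtain ⟨n, hn, hnm⟩ := hm
    refine Submodule.mem_sup.2 ⟨n, hn, m - n, ?_, by abel⟩
    rw [← LinearMap.ker_tensorProductMk, LinearMap.mem_ker, map_sub, hnm]
    exact sub_self _
  refine ⟨?_, htop⟩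
  let φ : (A →₀ R) →ₗ[R] M := Finsupp.linearCombination R x
  have hφ : Function.Surjective φ := by
    rw [← LinearMap.range_eq_top, Finsupp.range_linearCombination, htop]
  have hbij : Function.Injective (φ.lTensor (R ⧸ I)) := by
    have h1 : ∀ z : (R ⧸ I) ⊗[R] (A →₀ R), φ.lTensor (R ⧸ I) z =
        Finsupp.linearCombination (R ⧸ I) (fun a => (1 : R ⧸ I) ⊗ₜ[R] x a)
          (TensorProduct.finsuppScalarRight R (R ⧸ I) (R ⧸ I) A z) := by
      intro z
      induction z using TensorProduct.induction_on with
      | zero => simp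
      | add a b ha hb => simp [map_add, ha, hb]
      | tmul c f =>
        induction f using Finsupp.induction_linear with
        | zero => simp
        | add a b ha hb => simp only [TensorProduct.tmul_add, map_add, ha, hb]
        | single a r =>
          simp [φ, TensorProduct.smul_tmul', Algebra.smul_def, mul_comm,
            TensorProduct.finsuppScalarRight_apply_tmul]
          rw [← Finsupp.single_mul, Finsupp.linearCombination_single, TensorProduct.smul_tmul',
            smul_eq_mul, mul_one]
    intro z w hzw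
    rw [h1, h1] at hzw
    exact (TensorProduct.finsuppScalarRight R (R ⧸ I) (R ⧸ I) A).injective (hli hzw)
  let K := LinearMap.ker φ
  have hK : Function.Injective (K.subtype.lTensor (R ⧸ I)) :=
    lTensor_ker_injective I htor φ hφ
  have hle : (⊤ : Submodule R ↥K) ≤ I • (⊤ : Submodule R ↥K) := by
    intro k _
    rw [← LinearMap.ker_tensorProductMk (I := I) (Q := K), LinearMap.mem_ker]
    apply hK
    apply hbij
    simp
  have hb := eq_bot_of_le_smul (M := ↥K) I hI (⊤ : Submodule R ↥K) hle
  refine (LinearMap.ker_eq_bot (f := φ)).1 ((Submodule.eq_bot_iff _).2 fun k hk ↦ ?_)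
  have h : (⟨k, hk⟩ : K) ∈ (⊥ : Submodule R ↥K) := hb ▸ Submodule.mem_top
  exact congrArg Subtype.val ((Submodule.mem_bot R).1 h)

end Groth.Agent.CokerProj
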